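import Cfsg.Agent.H590.Ore.CoOneDeg

/-!
# `Co1`: 3588 is not a degree (helper764)

`two_part` : `χ(V) - χ(V s) = 2 tr(V on the part of the duad fixed by V)` for the element `V` of order 11 (no condition
on the tetrads); `dB_eq` : if the duads have multiplicity `< 21` then `M22` acts trivially on the part;
`dodecad_le` : `χ(dodecad) ≤ dim fix V` since `V` is the product of two involutions of the class of the dodecads.
-/

set_option autoImplicit false
set_option linter.unusedSectionVars false

namespace Cfsg.Agent.H764.S8.Co1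

open Module Cfsg Cfsg.Agent.H847.Avg Cfsg.Agent.H847.Co1Small Cfsg.Agent.H847.Co1Tab
open Cfsg.Agent.H590.Ore.CoOneDeg
open Cfsg.Agent.SporadicA.Co0Mono (signCo0 permCo0 wordPerm wordPerm_apply perm_mul_sign)
open Cfsg.Agent.SporadicA.GolayBase (idx pt idx_lt pt_idx idx_pt idx_injective word maskW enc basisMask)
open Cfsg.Agent.SporadicA.GolayPerm (papp)
open Cfsg.Agent.SporadicStructure.M24El
open Cfsg.Agent.CoOneType.CoOneE (pr)
open Cfsg.Agent.CoOneType.SignFacts (wt sup)
open Cfsg.Agent.H843.IMC.LamCo1 (wp)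
open scoped Pointwise

/-! ### induction on the code -/

/-- every code word is a sum of basis words -/
theorem code_ind {P : (GolayPt → ZMod 2) → Prop} (h0 : P 0)
    (hadd : ∀ x ∈ golayCode, ∀ y ∈ golayCode, P x → P y → P (x + y))
    (hb : ∀ k < 12, P (word (basisMask k))) : ∀ w ∈ golayCode, P w := by
  have hz : (0 : GolayPt → ZMod 2) ∈ golayCode := golayCode.zero_mem
  set Q : (GolayPt → ZMod 2) → Prop := fun w => w ∈ golayCode ∧ P w with hQ
  have hx : ∀ m n : ℕ, Q (word m) → Q (word n) → Q (word (m ^^^ n)) := by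
    intro m n hm hn
    rw [Cfsg.Agent.SporadicA.GolayBase.word_xor]
    exact ⟨golayCode.add_mem hm.1 hn.1, hadd _ hm.1 _ hn.1 hm.2 hn.2⟩
  have hm : ∀ i k : ℕ, k < 12 → Q (word (i % 2 * basisMask k)) := by
    intro i k hk
    have hi : i % 2 < 2 := Nat.mod_lt _ (by norm_num)
    interval_cases i % 2
    · rw [zero_mul, Cfsg.Agent.SporadicA.GolayBase.word_zero]
      exact ⟨hz, h0⟩
    · rw [one_mul]
      exact ⟨basis_code k hk, hb k hk⟩
  intro w hw
  have h1 := (Cfsg.Agent.SporadicA.GolayBase.mem_golayCode_iff w).1 hw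
  rw [Cfsg.Agent.SporadicA.GolayBase.isCode_iff] at h1
  have h2 : Q (word (enc (maskW w))) := by
    unfold enc
    exact hx _ _ (hx _ _ (hx _ _ (hx _ _ (hx _ _ (hx _ _ (hx _ _ (hx _ _ (hx _ _ (hx _ _ (hx _ _
      (hm _ 0 (by norm_num)) (hm _ 1 (by norm_num))) (hm _ 2 (by norm_num))) (hm _ 3 (by norm_num)))
      (hm _ 4 (by norm_num))) (hm _ 5 (by norm_num))) (hm _ 6 (by norm_num))) (hm _ 7 (by norm_num)))
      (hm _ 8 (by norm_num))) (hm _ 9 (by norm_num))) (hm _ 10 (by norm_num))) (hm _ 11 (by norm_num))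
  rw [h1, Cfsg.Agent.SporadicA.GolayBase.word_maskW] at h2
  exact h2.2

/-- the code words `d_k` with `b_k = d_k + V d_k + e_k 1 + s_k cd` -/
def dm : ℕ → ℕ
  | 0 => 11960891
  | 1 => 6332895
  | 2 => 2302972
  | 3 => 6079721
  | 4 => 5432665
  | 5 => 7767041
  | 6 => 418953
  | 7 => 10232008
  | 8 => 2409888
  | 9 => 14254209
  | 10 => 15164104
  | 11 => 902657
  | _ => 0

/-- the coefficients `e_k` -/
def em : ℕ → Bool
  | 0 => true
  | 2 => true
  | 4 => true
  | 5 => true
  | 6 => true
  | 10 => true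
  | 11 => true
  | _ => false

/-- the coefficients `s_k` -/
def sm : ℕ → Bool
  | 2 => true
  | 4 => true
  | 5 => true
  | 6 => true
  | 10 => true
  | 11 => true
  | _ => false

theorem dm_mem (k : ℕ) (hk : k < 12) : word (dm k) ∈ golayCode := by
  rw [Cfsg.Agent.SporadicA.GolayBase.mem_golayCode_iff, Cfsg.Agent.SporadicA.GolayBase.maskW_word]
  · revert k; decide +kernel
  · revert k; decide +kernel

/-- the code word `d_k` -/
def dk (k : ℕ) (hk : k < 12) : golayCode := ⟨word (dm k), dm_mem k hk⟩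

/-- the basis word -/
def bk (k : ℕ) (hk : k < 12) : golayCode := ⟨word (basisMask k), basis_code k hk⟩

theorem bits (k : ℕ) (hk : k < 12) : ∀ i < 24, (basisMask k).testBit (papp V i) =
    xor (xor ((dm k).testBit (papp V i)) ((dm k).testBit i)) (xor (em k) (sm k && (340831 : ℕ).testBit (papp V i))) := by
  revert k; decide +kernel

open Cfsg.Agent.SporadicA.Co1Simple (allOne) in
theorem bk_eq (k : ℕ) (hk : k < 12) : bk k hk = dk k hk + wordPerm (el V) (dk k hk) +
    ((if em k then allOne else 0) + (if sm k then cd else 0)) := by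
  apply Subtype.ext
  funext p
  obtain ⟨q, rfl⟩ := (el V : Equiv.Perm GolayPt).surjective p
  have h1 : idx ((el V : Equiv.Perm GolayPt) q) = papp V (idx q) := idx_el_smul okV q
  have h2 := bits k hk (idx q) (idx_lt q)
  have e1 : ((bk k hk : golayCode) : GolayPt → ZMod 2) ((el V : Equiv.Perm GolayPt) q) =
      if (basisMask k).testBit (papp V (idx q)) then 1 else 0 := by
    show word (basisMask k) _ = _
    rw [Cfsg.Agent.SporadicA.GolayBase.word_apply, h1]
  have e2 : ((dk k hk : golayCode) : GolayPt → ZMod 2) ((el V : Equiv.Perm GolayPt) q) =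
      if (dm k).testBit (papp V (idx q)) then 1 else 0 := by
    show word (dm k) _ = _
    rw [Cfsg.Agent.SporadicA.GolayBase.word_apply, h1]
  have e3 : ((wordPerm (el V) (dk k hk) : golayCode) : GolayPt → ZMod 2) ((el V : Equiv.Perm GolayPt) q) =
      if (dm k).testBit (idx q) then 1 else 0 := by
    rw [wordPerm_apply, Equiv.symm_apply_apply]
    rfl
  have e4 : (((if em k then allOne else 0 : golayCode) : golayCode) : GolayPt → ZMod 2) ((el V : Equiv.Perm GolayPt) q) =
      if em k then 1 else 0 := by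
    cases em k <;> rfl
  have e5 : (((if sm k then cd else 0 : golayCode) : golayCode) : GolayPt → ZMod 2) ((el V : Equiv.Perm GolayPt) q) =
      if (sm k && (340831 : ℕ).testBit (papp V (idx q))) then 1 else 0 := by
    cases sm k
    · rfl
    · show word 340831 _ = _
      rw [Cfsg.Agent.SporadicA.GolayBase.word_apply, h1, Bool.true_and]
  show ((bk k hk : golayCode) : GolayPt → ZMod 2) _ = (((dk k hk : golayCode) : GolayPt → ZMod 2) _ +
    ((wordPerm (el V) (dk k hk) : golayCode) : GolayPt → ZMod 2) _) +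
    ((((if em k then allOne else 0 : golayCode) : golayCode) : GolayPt → ZMod 2) _ +
    (((if sm k then cd else 0 : golayCode) : golayCode) : GolayPt → ZMod 2) _)
  rw [e1, e2, e3, e4, e5, h2]
  generalize (dm k).testBit (papp V (idx q)) = a
  generalize (dm k).testBit (idx q) = b
  generalize em k = c
  generalize (sm k && (340831 : ℕ).testBit (papp V (idx q))) = d
  revert a b c d
  decide

theorem chi_bk (k : ℕ) (hk : k < 12) : chi S1 (Multiplicative.ofAdd (bk k hk)) = if sm k then -1 else 1 := by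
  have h : ∀ k < 12, xor ((basisMask k).testBit 0) ((basisMask k).testBit 23) = sm k := by decide +kernel
  have h1 := h k hk
  unfold chi S1
  rw [Finset.sum_pair (by decide)]
  show sg (word (basisMask k) (some 0) + word (basisMask k) none) = _
  have e0 : word (basisMask k) (some 0) = if (basisMask k).testBit 0 then 1 else 0 := rfl
  have e1 : word (basisMask k) none = if (basisMask k).testBit 23 then 1 else 0 := rfl
  rw [e0, e1, ← h1]
  generalize (basisMask k).testBit 0 = a
  generalize (basisMask k).testBit 23 = b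
  cases a <;> cases b
  · simpa using sg_zero
  · simpa using sg_one
  · simpa using sg_one
  · have : (1 : ZMod 2) + 1 = 0 := by decide
    simpa [this] using sg_zero

/-! ### the element of order 11 on the whole space -/

variable {W : Type} [AddCommGroup W] [Module ℂ W] [FiniteDimensional ℂ W] (R : Spor.Co1 →* (W →ₗ[ℂ] W))

theorem rp_mul_rcode (g : M24) (c : Multiplicative golayCode) : rp R g * rcode R c = rcode R (wp g c) * rp R g := by
  show R (pr (permCo0 g)) * R (pr (signCo0 c.toAdd)) = R (pr (signCo0 (wordPerm g c.toAdd))) * R (pr (permCo0 g))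
  rw [← map_mul, ← map_mul, ← map_mul, ← map_mul, perm_mul_sign]

theorem sq_code (c : Multiplicative golayCode) : c * c = 1 := by
  apply Multiplicative.toAdd.injective
  apply Subtype.ext
  funext p
  show ((c.toAdd : golayCode) : GolayPt → ZMod 2) p + ((c.toAdd : golayCode) : GolayPt → ZMod 2) p = 0
  exact CharTwo.add_self_eq_zero _

/-- the code word `c + V c` -/
def kk (g : M24) (c : Multiplicative golayCode) : Multiplicative golayCode := c * wp g c

theorem kk_mul (g : M24) (a b : Multiplicative golayCode) : kk g (a * b) = kk g a * kk g b := by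
  unfold kk
  rw [map_mul]
  exact mul_mul_mul_comm a b (wp g a) (wp g b)

/-- the average over `c + V c` -/
noncomputable def av (g : M24) : W →ₗ[ℂ] W :=
  (Fintype.card (Multiplicative golayCode) : ℂ)⁻¹ • ∑ c : Multiplicative golayCode, rcode R (kk g c)

theorem rcode_av (g : M24) (b : Multiplicative golayCode) : rcode R (kk g b) * av R g = av R g := by
  unfold av
  rw [mul_smul_comm, Finset.mul_sum]
  congr 1
  refine Fintype.sum_equiv (Equiv.mulLeft b) _ _ fun a => ?_
  rw [Equiv.coe_mulLeft, ← map_mul, kk_mul]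

theorem pS_av (g : M24) {S : Finset GolayPt} (hS : g • S = S) : pS R S * av R g = pS R S := by
  unfold av
  rw [mul_smul_comm, Finset.mul_sum, Finset.sum_congr rfl (g := fun _ => pS R S), Finset.sum_const, Finset.card_univ,
    ← Nat.cast_smul_eq_nsmul ℂ, smul_smul, inv_mul_cancel₀ card_ne, one_smul]
  intro c _
  have h1 : pS R S * rcode R (kk g c) = chi S (kk g c) • pS R S := avg_mul _ (lin_chi S) _
  have h2 : chi S (wp g c) = chi S c := by
    conv_lhs => rw [← hS]
    exact chi_smul g S c
  rw [h1]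
  unfold kk
  rw [(lin_chi S).mul, h2, (lin_chi S).sq, one_smul]

/-- the trace as the trace of the average -/
theorem trace_av (g : M24) (X : W →ₗ[ℂ] W) (hX : ∀ c, rcode R c * X = X * rcode R c) :
    LinearMap.trace ℂ W (rp R g * X) = LinearMap.trace ℂ W (av R g * rp R g * X) := by
  have key : ∀ c : Multiplicative golayCode, LinearMap.trace ℂ W (rcode R (kk g c) * rp R g * X) =
      LinearMap.trace ℂ W (rp R g * X) := by
    intro c
    have h1 : rcode R c * rcode R c = 1 := by rw [← map_mul, sq_code, map_one]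
    have h2 : rcode R (kk g c) * rp R g * X = rcode R c * (rp R g * X * rcode R c) := by
      unfold kk
      rw [map_mul, mul_assoc (rcode R c), ← rp_mul_rcode, mul_assoc, mul_assoc (rp R g), hX, ← mul_assoc (rp R g)]
    rw [h2, LinearMap.trace_mul_comm, mul_assoc, h1, mul_one]
  unfold av
  rw [smul_mul_assoc, smul_mul_assoc, Finset.sum_mul, Finset.sum_mul, map_smul, map_sum,
    Finset.sum_congr rfl fun c _ => key c, Finset.sum_const, Finset.card_univ, smul_eq_mul, nsmul_eq_mul, ← mul_assoc,
    inv_mul_cancel₀ card_ne, one_mul]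

theorem rcode_comm (b c : Multiplicative golayCode) : rcode R b * rcode R c = rcode R c * rcode R b := by
  rw [← map_mul, ← map_mul, mul_comm]

open Cfsg.Agent.SporadicA.Co1Simple (allOne) in
theorem rcode_allOne : rcode R (Multiplicative.ofAdd allOne) = 1 := by
  rw [rcode_apply]
  show R (pr (signCo0 allOne)) = 1
  have h := Cfsg.Agent.CoOneType.CoOneE.pr_sign_add_allOne 0
  rw [zero_add, Cfsg.Agent.SporadicA.Co0Mono.signCo0_zero, map_one] at h
  rw [h, map_one]

theorem ofAdd_four (x y a b : golayCode) : Multiplicative.ofAdd (x + y + (a + b)) =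
    Multiplicative.ofAdd b * (Multiplicative.ofAdd a * (Multiplicative.ofAdd x * Multiplicative.ofAdd y)) := by
  rw [ofAdd_add, ofAdd_add, ofAdd_add, mul_comm, mul_comm (Multiplicative.ofAdd a), mul_assoc]

/-- **the part of the fixed duad** -/
theorem part_S1 : (1 - rcode R (Multiplicative.ofAdd cd)) * av R (el V) = (2 : ℂ) • pS R S1 := by
  set X : W →ₗ[ℂ] W := 1 - rcode R (Multiplicative.ofAdd cd) with hXdef
  have hcomm : ∀ c, rcode R c * X = X * rcode R c := fun c => by
    rw [hXdef, mul_sub, sub_mul, mul_one, one_mul, rcode_comm]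
  have hcd : rcode R (Multiplicative.ofAdd cd) * X = -X := by
    have h1 : rcode R (Multiplicative.ofAdd cd) * rcode R (Multiplicative.ofAdd cd) = 1 := by
      rw [← map_mul, sq_code, map_one]
    rw [hXdef, mul_sub, mul_one, h1, neg_sub]
  -- the range lies in the part
  have hmem : ∀ w ∈ golayCode, ∀ h : w ∈ golayCode, rcode R (Multiplicative.ofAdd ⟨w, h⟩) * (X * av R (el V)) =
      chi S1 (Multiplicative.ofAdd ⟨w, h⟩) • (X * av R (el V)) := by
    refine code_ind ?_ ?_ ?_
    · intro h
      have h1 : Multiplicative.ofAdd (⟨0, h⟩ : golayCode) = 1 := rfl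
      rw [h1, map_one, one_mul, (lin_chi S1).one, one_smul]
    · intro x hx y hy h1 h2 h
      have h3 : Multiplicative.ofAdd (⟨x + y, h⟩ : golayCode) =
        Multiplicative.ofAdd (⟨x, hx⟩ : golayCode) * Multiplicative.ofAdd (⟨y, hy⟩ : golayCode) := rfl
      rw [h3, map_mul, mul_assoc, h2 hy, mul_smul_comm, h1 hx, smul_smul, (lin_chi S1).mul, mul_comm]
    · intro k hk h
      have h1 : (⟨word (basisMask k), h⟩ : golayCode) = bk k hk := rfl
      rw [h1, chi_bk k hk, bk_eq k hk]
      have h2 : Multiplicative.ofAdd (dk k hk + wordPerm (el V) (dk k hk) +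
          ((if em k then Cfsg.Agent.SporadicA.Co1Simple.allOne else 0) + (if sm k then cd else 0))) =
          Multiplicative.ofAdd (if sm k then cd else 0) * (Multiplicative.ofAdd
            (if em k then Cfsg.Agent.SporadicA.Co1Simple.allOne else 0) * kk (el V) (Multiplicative.ofAdd (dk k hk))) := by
        exact ofAdd_four _ _ _ _
      rw [h2, map_mul, map_mul]
      have h3 : rcode R (kk (el V) (Multiplicative.ofAdd (dk k hk))) * (X * av R (el V)) = X * av R (el V) := by
        rw [← mul_assoc, hcomm, mul_assoc, rcode_av]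
      have h4 : rcode R (Multiplicative.ofAdd (if em k then Cfsg.Agent.SporadicA.Co1Simple.allOne else 0)) = 1 := by
        cases em k
        · exact map_one (rcode R)
        · exact rcode_allOne R
      rw [mul_assoc, mul_assoc, h3, h4, one_mul]
      cases sm k
      · show rcode R 1 * _ = _
        rw [map_one, one_mul, if_neg (by decide), one_smul]
      · rw [if_pos rfl, if_pos rfl, ← mul_assoc, hcd, neg_mul, neg_one_smul]
  have h1 : pS R S1 * (X * av R (el V)) = X * av R (el V) := by
    ext x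
    exact avg_eq (rcode R) (lin_chi S1) fun b => by
      have := congrArg (fun f : W →ₗ[ℂ] W => f x) (hmem _ (b.toAdd : golayCode).2 (b.toAdd : golayCode).2)
      exact this
  have h2 : pS R S1 * X = (2 : ℂ) • pS R S1 := by
    have h3 : pS R S1 * rcode R (Multiplicative.ofAdd cd) = chi S1 (Multiplicative.ofAdd cd) • pS R S1 :=
      avg_mul _ (lin_chi S1) _
    rw [hXdef, mul_sub, mul_one, h3, chi_S1_cd, neg_one_smul, sub_neg_eq_add, two_smul]
  rw [← h1, ← mul_assoc, h2, smul_mul_assoc, pS_av R (el V) V_S1]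

/-- **`χ(V) - χ(V s) = 2 tr(V on the part of the duad)`** -/
theorem two_part : LinearMap.trace ℂ W (R (pr (permCo0 (el V)))) - LinearMap.trace ℂ W
    (R (pr (permCo0 (el V)) * pr (signCo0 cd))) = 2 * LinearMap.trace ℂ W (rp R (el V) * pS R S1) := by
  have h1 := trace_av R (el V) (1 - rcode R (Multiplicative.ofAdd cd)) fun c => by
    rw [mul_sub, sub_mul, mul_one, one_mul, rcode_comm]
  have h2 : LinearMap.trace ℂ W (av R (el V) * rp R (el V) * (1 - rcode R (Multiplicative.ofAdd cd))) =
      2 * LinearMap.trace ℂ W (rp R (el V) * pS R S1) := by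
    rw [LinearMap.trace_mul_comm, ← mul_assoc, part_S1, smul_mul_assoc, map_smul, smul_eq_mul, LinearMap.trace_mul_comm]
  rw [← h2, ← h1, mul_sub, mul_one, map_sub, map_mul R]
  rfl

/-! ### the action of `M22` on the part of the duad -/

theorem smul_S1_of_M22 {g : Equiv.Perm GolayPt} (hg : g ∈ Spor.M22) :
    (⟨g, Cfsg.Agent.H121.Cyc.M22_le24 hg⟩ : M24) • S1 = S1 := by
  have h0 : g (some 0) = some 0 := hg.2
  have h1 : g none = none := hg.1.2
  unfold S1
  rw [Finset.smul_finset_insert, Finset.smul_finset_singleton]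
  show ({g (some 0), g none} : Finset GolayPt) = _
  rw [h0, h1]

theorem V_mem : ((el V : M24) : Equiv.Perm GolayPt) ∈ Spor.M22 := by
  refine ⟨⟨(el V).2, ?_⟩, ?_⟩
  · show (el V : M24) • (none : GolayPt) = none
    rw [el_smul_pt okV]
    decide +kernel
  · show (el V : M24) • (some 0 : GolayPt) = some 0
    rw [el_smul_pt okV]
    decide +kernel

/-- the representation of `M22` on the part of the duad -/
noncomputable def rM : Spor.M22 →* (eig (rcode R) (chi S1) →ₗ[ℂ] eig (rcode R) (chi S1)) where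
  toFun g := (rp R ⟨g, Cfsg.Agent.H121.Cyc.M22_le24 g.2⟩).restrict fun x hx => rp_mem R (smul_S1_of_M22 g.2) hx
  map_one' := by
    ext x
    show rp R 1 x = x
    rw [map_one]
    rfl
  map_mul' g h := by
    ext x
    show rp R (⟨g, Cfsg.Agent.H121.Cyc.M22_le24 g.2⟩ * ⟨h, Cfsg.Agent.H121.Cyc.M22_le24 h.2⟩) x = _
    rw [map_mul]
    rfl

/-- **If the multiplicity of the duads is less than 21 then `V` acts trivially on the part.** -/
theorem trace_of_lt (h : dB R < 21) : LinearMap.trace ℂ W (rp R (el V) * pS R S1) = dB R := by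
  have h0 : finrank ℂ (eig (rcode R) (chi S1)) = dB R := finrank_duad R S1_mem
  have h1 : ∀ g, rM R g = 1 := by
    by_contra hcon
    push Not at hcon
    have := Cfsg.Agent.H121.Cyc.m22' _ (rM R) hcon
    omega
  rw [trace_restrict R V_S1]
  have h2 : (rp R (el V)).restrict (fun x hx => rp_mem R V_S1 hx) = (1 : eig (rcode R) (chi S1) →ₗ[ℂ] eig (rcode R) (chi S1)) :=
    h1 ⟨_, V_mem⟩
  rw [h2, LinearMap.trace_one, h0]

/-! ### the dodecads -/

/-- the value on the dodecad element -/
theorem trace_dodecad {d : golayCode} (hd : wt d = 12) :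
    LinearMap.trace ℂ W (R (pr (signCo0 d))) = dA R - 12 * dB R + 11 * dC R := by
  obtain ⟨o, ho⟩ := exists_octad
  have e0 := mult R ho hd ∅ [] hS0
  have e2 := mult R ho hd {some 0, some 1} [0, 1] hS2
  have e4 := mult R ho hd {some 0, some 1, some 2, some 3} [0, 1, 2, 3] hS4
  rw [tab_sum _ _ _ _ _ _ _ _ _ _ _ tab0] at e0
  rw [tab_sum _ _ _ _ _ _ _ _ _ _ _ tab2] at e2
  rw [tab_sum _ _ _ _ _ _ _ _ _ _ _ tab4] at e4
  unfold dA dB dC S0
  push_cast at e0 e2 e4 ⊢
  linear_combination (-1 / 4096 : ℂ) * e0 + (12 / 4096 : ℂ) * e2 + (-11 / 4096 : ℂ) * e4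

theorem isConj_dodecad_of_fix {d : golayCode} (hd : wt d = 12) {g : M24} (hg : g * g = 1) (h1 : g ≠ 1)
    (h8 : Nat.card (MulAction.fixedBy GolayPt g) = 0) : IsConj (pr (signCo0 d)) (pr (permCo0 g)) := by
  obtain ⟨o, ho⟩ := exists_octad
  have hne : pr (permCo0 g) ≠ 1 := by
    intro h
    exact h1 (Cfsg.Agent.H419.Spor.Co1.pr_perm_injective (h.trans (map_one (pr.comp permCo0)).symm))
  rcases Cfsg.Agent.CoOneType.ClosingFacts.inv_cases o d Cfsg.Agent.CoOneType.ClosingCo1.a1 ho hd (permCo0 g)
    (by rw [← map_mul, hg, map_one]) hne with h | h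
  · exfalso
    obtain ⟨θ, hθ, hval⟩ := Cfsg.Agent.H419.Spor.Co1.exists_character
    have e1 : θ (pr (signCo0 o)) = θ (pr (permCo0 g)) := by
      obtain ⟨n, ρ, rfl⟩ := hθ
      obtain ⟨x, hx⟩ := isConj_iff.1 h
      have hx' : x * pr (signCo0 o) * x⁻¹ = pr (permCo0 g) := hx
      rw [← hx', Representation.char_conj]
    have c1 : Cfsg.Agent.H419.Spor.Co1.chi (signCo0 o) = 8 := by rw [chi_sign_wt, ho]; norm_num
    have c2 : Cfsg.Agent.H419.Spor.Co1.chi (signCo0 o * signCo0 o) = 24 := by
      rw [Cfsg.Agent.SporadicA.Co0Mono.signCo0_mul_self, Cfsg.Agent.H419.Spor.Co1.chi_one]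
    have c3 : Cfsg.Agent.H419.Spor.Co1.chi (permCo0 g) = 0 := by
      rw [Cfsg.Agent.H419.Spor.Co1.chi, Cfsg.Agent.H419.LeechFix.lchi_perm (MonoidHom.id Co0) (g := permCo0 g) (σ := g) rfl, h8]
      norm_num
    have c4 : Cfsg.Agent.H419.Spor.Co1.chi (permCo0 g * permCo0 g) = 24 := by
      rw [← map_mul, hg, map_one, Cfsg.Agent.H419.Spor.Co1.chi_one]
    rw [hval, hval, Cfsg.Agent.H419.Spor.Co1.psi, Cfsg.Agent.H419.Spor.Co1.psi, c1, c2, c3, c4] at e1
    norm_num at e1
  · exact h

/-- `x ↦ - 1 / x` -/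
def T1 : ℕ := 1795248432537898728475572672376535
/-- `x ↦ - 1 / (2 x)` -/
def T2 : ℕ := 15825477684991474046802997103150455

theorem okT1 : ok T1 = true := by decide +kernel
theorem okT2 : ok T2 = true := by decide +kernel

theorem elV_eq : el V = el T1 * el T2 := by
  rw [← el_pcomp okT1 okT2]
  congr 1

/-- the check for a fixed point free involution -/
def chkT (P : ℕ) : Bool :=
  ok P && Nat.beq (Cfsg.Agent.SporadicA.GolayPerm.pcomp P P) idP && !(Nat.beq (papp P 0) 0 && Nat.beq (papp P 1) 1) &&
    Nat.beq ((List.range 24).countP fun i => Nat.beq (papp P i) i) 0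

theorem chkT1 : chkT T1 = true := by decide +kernel
theorem chkT2 : chkT T2 = true := by decide +kernel

theorem T_facts {P : ℕ} (h : chkT P = true) {d : golayCode} (hd : wt d = 12) :
    el P * el P = 1 ∧ IsConj (pr (signCo0 d)) (pr (permCo0 (el P))) := by
  unfold chkT at h
  simp only [Bool.and_eq_true] at h
  obtain ⟨⟨⟨h1, h2⟩, h3⟩, h4⟩ := h
  have hsq : el P * el P = 1 := by
    have := congrArg el (Nat.eq_of_beq_eq_true h2)
    rwa [el_pcomp h1 h1, el_idP] at this
  have h8 : Nat.card (MulAction.fixedBy GolayPt (el P)) = 0 := by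
    rw [Nat.card_eq_fintype_card, Fintype.card_subtype, ← Nat.eq_of_beq_eq_true h4,
      ← Cfsg.Agent.H866.InvolType.fx_permOf (ok_iff.1 h1).1]
    unfold Cfsg.Agent.H866.InvolType.fx
    rw [← coe_el h1]
    rfl
  exact ⟨hsq, isConj_dodecad_of_fix hd hsq (moved h1 h3) h8⟩

/-- fixed space of an involution of the class of the dodecads -/
theorem ker_T {P : ℕ} (h : chkT P = true) :
    2 * (finrank ℂ (LinearMap.ker (rp R (el P) - 1)) : ℤ) = finrank ℂ W + (dA R - 12 * dB R + 11 * dC R) := by
  obtain ⟨d, hd⟩ := exists_dodecad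
  obtain ⟨hsq, hconj⟩ := T_facts h hd
  have e1 : LinearMap.trace ℂ W (rp R (el P)) = dA R - 12 * dB R + 11 * dC R := by
    rw [← trace_dodecad R hd]
    exact (trace_conj R hconj).symm
  rw [trace_inv (by rw [← map_mul, hsq, map_one])] at e1
  have : ((2 * (finrank ℂ (LinearMap.ker (rp R (el P) - 1)) : ℤ) : ℤ) : ℂ) =
      ((finrank ℂ W + (dA R - 12 * dB R + 11 * dC R) : ℤ) : ℂ) := by
    push_cast
    linear_combination e1
  exact_mod_cast this

/-- the restriction to the group of order 11 -/
noncomputable def rZV : Subgroup.zpowers (el V) →* (W →ₗ[ℂ] W) := (rp R).comp (Subgroup.zpowers (el V)).subtype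

/-- **The dimension of the fixed space of the element of order 11.** -/
theorem fix_V {t : ℤ} (ht : ∀ h ∈ Subgroup.zpowers (el V), h ≠ 1 → LinearMap.trace ℂ W (rp R h) = t) :
    (11 * (finrank ℂ (eig (rZV R) fun _ => (1 : ℂ))) : ℤ) = finrank ℂ W + 10 * t := by
  classical
  let _ : Fintype (Subgroup.zpowers (el V)) := Fintype.ofFinite _
  have h1 := trace_avg (rZV R) (lin_one (A := Subgroup.zpowers (el V)))
  rw [trace_avg_eq_sum, ← Nat.card_eq_fintype_card, card_ZV,
    Fintype.sum_eq_add_sum_compl (1 : Subgroup.zpowers (el V))] at h1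
  rw [Finset.sum_congr rfl (g := fun _ => (t : ℂ)) (fun z hz => by
    rw [one_mul]
    refine ht z z.2 fun h' => ?_
    rw [Finset.mem_compl, Finset.mem_singleton] at hz
    exact hz (Subtype.ext h')), Finset.sum_const,
    Finset.card_compl, ← Nat.card_eq_fintype_card, card_ZV, Finset.card_singleton, map_one, LinearMap.trace_one, one_mul,
    nsmul_eq_mul] at h1
  have h2 : ((11 * (finrank ℂ (eig (rZV R) fun _ => (1 : ℂ))) : ℤ) : ℂ) = ((finrank ℂ W + 10 * t : ℤ) : ℂ) := by
    push_cast at h1 ⊢
    rw [← h1]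
    norm_num
    ring
  exact_mod_cast h2

/-- **The value on the dodecads is at most the dimension of the fixed space of `V`.** -/
theorem dodecad_le {t : ℤ} (ht : ∀ h ∈ Subgroup.zpowers (el V), h ≠ 1 → LinearMap.trace ℂ W (rp R h) = t) :
    11 * (dA R - 12 * dB R + 11 * dC R : ℤ) ≤ finrank ℂ W + 10 * t := by
  have h1 := ker_T R chkT1
  have h2 := ker_T R chkT2
  have h3 := finrank_inf (LinearMap.ker (rp R (el T1) - 1)) (LinearMap.ker (rp R (el T2) - 1))
  have h4 : finrank ℂ (LinearMap.ker (rp R (el T1) - 1) ⊓ LinearMap.ker (rp R (el T2) - 1) : Submodule ℂ W) ≤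
      finrank ℂ (eig (rZV R) fun _ => (1 : ℂ)) := by
    refine Submodule.finrank_mono ?_
    rintro x ⟨k1, k2⟩
    rw [SetLike.mem_coe, LinearMap.mem_ker, LinearMap.sub_apply, sub_eq_zero] at k1 k2
    have k3 : rp R (el V) x = x := by
      rw [elV_eq, map_mul, Module.End.mul_apply]
      exact (congrArg _ k2).trans k1
    have key : ∀ k : ℕ, rp R (el V ^ k) x = x := by
      intro k
      induction k with
      | zero => rw [pow_zero, map_one]; rfl
      | succ k ih => rw [pow_succ, map_mul, Module.End.mul_apply, k3, ih]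
    intro z
    rw [one_smul]
    obtain ⟨k, hk⟩ : (z : M24) ∈ Submonoid.powers (el V) := by
      rw [mem_powers_iff_mem_zpowers]
      exact z.2
    show rp R (z : M24) x = x
    rw [← hk]
    exact key k
  have h5 := fix_V R ht
  have h6 : (finrank ℂ (LinearMap.ker (rp R (el T1) - 1)) : ℤ) + finrank ℂ (LinearMap.ker (rp R (el T2) - 1)) ≤
      finrank ℂ W + finrank ℂ (eig (rZV R) fun _ => (1 : ℂ)) := by
    exact_mod_cast h3.trans (Nat.add_le_add_left h4 _)
  linarith

end Cfsg.Agent.H764.S8.Co1
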